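import Cfsg.Agent.H495.Wf.Base
import Cfsg.Agent.H500.NB.J3
import Cfsg.Agent.Classification.Order360Iso
import Cfsg.Agent.S2067

/-!
# S3826, `p = 3`: the row of `J3`

An element `x` of order 3 which commutes with no involution satisfies `|C(x)| ≤ 243`: the primes 17, 19 are clear; if `y` of
order 5 commutes with `x`, then `x` commutes with the element `c ∈ C(y)` of order 3, `|C(c)| = 1080`, and `C(c) / ⟨c⟩ = A₆`,
so `x ∈ ⟨c⟩`.
-/

set_option autoImplicit false

namespace Cfsg.Agent.H495.Wf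

open Cfsg Cfsg.Agent.H533.Wf Subgroup
open Cfsg.Agent.J3Type.OneClass Cfsg.Agent.J2Type.Model

universe u

/-! ### order 5 in groups of order 360 -/

theorem perm_six {σ τ : Equiv.Perm (Fin 6)} (hσ : orderOf σ = 5) (h : τ * σ = σ * τ) : τ ^ 5 = 1 := by
  obtain ⟨n, hn⟩ := Equiv.Perm.cycleType_prime_order (σ := σ) (by rw [hσ]; norm_num)
  have h1 : σ.cycleType.sum ≤ 6 := by
    rw [Equiv.Perm.sum_cycleType]
    exact (Finset.card_le_univ _).trans (by simp)
  rw [hσ] at hn
  have hn0 : n = 0 := by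
    rw [hn, Multiset.sum_replicate, smul_eq_mul] at h1
    omega
  rw [hn0] at hn
  have hc : Nat.card ↥(centralizer ({σ} : Set (Equiv.Perm (Fin 6)))) = 5 := by
    rw [Equiv.Perm.nat_card_centralizer, hn]
    decide
  have h2 : (⟨τ, mem_centralizer_singleton_iff.2 h⟩ : centralizer ({σ} : Set (Equiv.Perm (Fin 6)))) ^ 5 = 1 := by
    rw [← hc]
    exact pow_card_eq_one'
  exact congrArg Subtype.val h2

theorem pow_five {H : Type*} [Group H] [Finite H] [IsSimpleGroup H] (h : Nat.card H = 360) {x y : H}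
    (hx : orderOf x = 5) (hy : y * x = x * y) : y ^ 5 = 1 := by
  obtain ⟨e⟩ := Cfsg.Agent.Classification.Order360Iso.nonempty_mulEquiv_alternating (G := H) h
  have h1 : orderOf ((e x : alternatingGroup (Fin 6)) : Equiv.Perm (Fin 6)) = 5 := by
    rw [Subgroup.orderOf_coe, MulEquiv.orderOf_eq, hx]
  have h2 : ((e y : alternatingGroup (Fin 6)) : Equiv.Perm (Fin 6)) * (e x : alternatingGroup (Fin 6)) =
      (e x : alternatingGroup (Fin 6)) * (e y : alternatingGroup (Fin 6)) := by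
    rw [← Subgroup.coe_mul, ← Subgroup.coe_mul, ← map_mul, ← map_mul, hy]
  have h3 := perm_six h1 h2
  apply e.injective
  apply Subtype.ext
  rw [map_pow, Subgroup.coe_pow, h3, map_one]
  rfl

section J3

variable {K : Type u} [Group K] [Finite K]

/-- `y` of order 5, `c` of order 3 commuting with an involution, `x` of order 3; all commute: `x ∈ ⟨c⟩` -/
theorem mem_zpowers_of_five (h : Spor.IsoJ3 K) {x y c t : K} (hx : orderOf x = 3) (hy : orderOf y = 5)
    (hc : orderOf c = 3) (ht : orderOf t = 2) (htc : t * c = c * t) (hxy : x * y = y * x) (hxc : x * c = c * x)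
    (hyc : y * c = c * y) : x ∈ zpowers c := by
  obtain ⟨hcard, hM, hone, -⟩ := CpAutJThree.base h
  have memC : ∀ a : K, a ∈ centralizer ({c} : Set K) ↔ a * c = c * a := fun a => mem_centralizer_singleton_iff
  obtain ⟨c0, hc0, ⟨s, hs, hsc⟩, hc0c⟩ := CpAutJThree.exc h
  obtain ⟨g, hg⟩ := CpAutJThree.conj_three hM hone hc0 hc hs ht hsc htc
  have hC : Nat.card ↥(centralizer ({c} : Set K)) = 1080 := by
    rw [← CpAutJThree.card_centralizer_conj g hg]; exact hc0c
  let d : centralizer ({c} : Set K) := ⟨c, (memC c).2 rfl⟩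
  have hd3 : orderOf d = 3 := by rw [← hc]; exact orderOf_mk _ _
  have hdd : ∀ a : centralizer ({c} : Set K), a * d = d * a := fun a => Subtype.ext ((memC a).1 a.2)
  have hZn : (zpowers d).Normal := by
    constructor
    rintro n ⟨k, rfl⟩ g
    refine ⟨k, ?_⟩
    have h1 : Commute g d := hdd g
    have := h1.zpow_right k
    show d ^ k = g * d ^ k * g⁻¹
    rw [this.eq]; group
  have hHD8 := J3Type.Extra.hd8_quotient d hd3 hdd (CpAutJThree.hD_of_model hM hc)
  have hq : Nat.card (↥(centralizer ({c} : Set K)) ⧸ zpowers d) = 360 := by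
    have := card_eq_card_quotient_mul_card_subgroup (zpowers d)
    rw [hC, Nat.card_zpowers, hd3] at this
    omega
  have : Fact (Nat.Prime 2) := ⟨Nat.prime_two⟩
  obtain ⟨s', hs'⟩ := exists_prime_orderOf_dvd_card' (G := ↥(centralizer ({c} : Set K)) ⧸ zpowers d) 2
    (by rw [hq]; norm_num)
  have hsim := J3Type.Extra.isSimple hHD8 hs'
  have hxC : x ∈ centralizer ({c} : Set K) := (memC x).2 hxc
  have hyC : y ∈ centralizer ({c} : Set K) := (memC y).2 hyc
  set π := QuotientGroup.mk' (zpowers d) with hπ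
  have hker : ∀ a : centralizer ({c} : Set K), π a = 1 ↔ a ∈ zpowers d := fun a => QuotientGroup.eq_one_iff a
  have hy5 : orderOf (π ⟨y, hyC⟩) = 5 := by
    have h5 : Fact (Nat.Prime 5) := ⟨by norm_num⟩
    refine orderOf_eq_prime ?_ ?_
    · rw [← map_pow]
      have : (⟨y, hyC⟩ : centralizer ({c} : Set K)) ^ 5 = 1 := by
        apply Subtype.ext
        show y ^ 5 = 1
        rw [← hy, pow_orderOf_eq_one]
      rw [this, map_one]
    · intro h1
      have h2 := (hker _).1 h1
      have h3 : orderOf (⟨y, hyC⟩ : centralizer ({c} : Set K)) ∣ 3 := by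
        have h4 := orderOf_dvd_natCard (⟨_, h2⟩ : ↥(zpowers d))
        rw [Subgroup.orderOf_mk, Nat.card_zpowers, hd3] at h4
        exact h4
      rw [Subgroup.orderOf_mk, hy] at h3
      omega
  have h1 : π ⟨x, hxC⟩ * π ⟨y, hyC⟩ = π ⟨y, hyC⟩ * π ⟨x, hxC⟩ := by
    rw [← map_mul, ← map_mul]
    exact congrArg π (Subtype.ext hxy)
  have h2 := pow_five hq hy5 h1
  have h3 : π ⟨x, hxC⟩ ^ 3 = 1 := by
    rw [← map_pow]
    have : (⟨x, hxC⟩ : centralizer ({c} : Set K)) ^ 3 = 1 := by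
      apply Subtype.ext
      show x ^ 3 = 1
      rw [← hx, pow_orderOf_eq_one]
    rw [this, map_one]
  have h4 : π ⟨x, hxC⟩ = 1 := by
    have := pow_gcd_eq_one.mpr ⟨h2, h3⟩
    simpa using this
  obtain ⟨k, hk⟩ := (hker _).1 h4
  exact ⟨k, by
    have := congrArg Subtype.val hk
    simpa [d] using this⟩

/-- if `x` of order 3 commutes with an element of order 5, then it commutes with an involution -/
theorem exists_inv_of_five (h : Spor.IsoJ3 K) {x y : K} (hx : orderOf x = 3) (hy : orderOf y = 5)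
    (hxy : x * y = y * x) : ∃ t : K, orderOf t = 2 ∧ t * x = x * t := by
  obtain ⟨hcard, hM, hone, -⟩ := CpAutJThree.base h
  have h5 : Fact (Nat.Prime 5) := ⟨by norm_num⟩
  have h2 : Fact (Nat.Prime 2) := ⟨by norm_num⟩
  obtain ⟨c0, hc0, ⟨s, hs, hsc⟩, hc0c⟩ := CpAutJThree.exc h
  -- an involution commuting with `y`
  have key : ∀ w : K, 5 ∣ Nat.card ↥(centralizer ({w} : Set K)) → ∃ g : K, (g * w * g⁻¹) * y = y * (g * w * g⁻¹) := by
    intro w hw
    obtain ⟨z, hz⟩ := exists_prime_orderOf_dvd_card' 5 hw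
    have hz' : orderOf (z : K) = 5 := by rw [← hz]; exact Subgroup.orderOf_coe z
    obtain ⟨g, k, hk⟩ := H500.NB.conj_zpowers hcard hy hz'
    refine ⟨g, ?_⟩
    have hk' : (g * (z : K) * g⁻¹) ^ k = y := hk
    have h1 : Commute (g * w * g⁻¹) (g * (z : K) * g⁻¹) := by
      have h3 := mem_centralizer_singleton_iff.1 z.2
      show (g * w * g⁻¹) * (g * (z : K) * g⁻¹) = (g * (z : K) * g⁻¹) * (g * w * g⁻¹)
      calc (g * w * g⁻¹) * (g * (z : K) * g⁻¹) = g * (w * z) * g⁻¹ := by group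
        _ = g * (z * w) * g⁻¹ := by rw [h3]
        _ = _ := by group
    rw [← hk']
    exact (h1.zpow_right k).eq
  obtain ⟨g, hg⟩ := key s (by rw [(hM s hs).2.1]; norm_num)
  obtain ⟨g', hg'⟩ := key c0 (by rw [hc0c]; norm_num)
  set t := g * s * g⁻¹ with ht
  set c := g' * c0 * g'⁻¹ with hc
  have ht2 : orderOf t = 2 := by
    rw [← hs]
    exact orderOf_injective (MulAut.conj g).toMonoidHom (MulAut.conj g).injective s
  have hc3 : orderOf c = 3 := by
    rw [← hc0]
    exact orderOf_injective (MulAut.conj g').toMonoidHom (MulAut.conj g').injective c0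
  -- `C(y) ∩ C(t)` has order 10
  obtain ⟨-, hC, Q, v, ρ, M⟩ := hM t ht2
  have hyt : y ∈ centralizer ({t} : Set K) := mem_centralizer_singleton_iff.2 hg.symm
  have h10 := J2Type.COdd.card_cent_five M hC (c := ⟨y, hyt⟩) (by rw [orderOf_mk]; exact hy)
  have memY : ∀ a : K, a ∈ centralizer ({y} : Set K) ↔ a * y = y * a := fun a => mem_centralizer_singleton_iff
  have memT : ∀ a : K, a ∈ centralizer ({t} : Set K) ↔ a * t = t * a := fun a => mem_centralizer_singleton_iff
  have hcd : Nat.card ↥(centralizer ({(⟨t, (memY t).2 hg⟩ : centralizer ({y} : Set K))} :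
      Set (centralizer ({y} : Set K)))) = 10 := by
    rw [← h10]
    refine Nat.card_congr ⟨fun a => ⟨⟨a.1.1, ?_⟩, ?_⟩, fun a => ⟨⟨a.1.1, ?_⟩, ?_⟩, fun a => rfl, fun a => rfl⟩
    · exact (memT _).2 (congrArg Subtype.val (mem_centralizer_singleton_iff.1 a.2))
    · exact Subtype.ext ((memY _).1 a.1.2)
    · exact (memY _).2 (congrArg Subtype.val a.2)
    · exact mem_centralizer_singleton_iff.2 (Subtype.ext ((memT _).1 a.1.2))
  have h3 := H500.NB.comm_of_ten (D := centralizer ({y} : Set K)) (y := ⟨y, (memY y).2 rfl⟩) (t := ⟨t, (memY t).2 hg⟩)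
    (x := ⟨x, (memY x).2 hxy⟩) (c := ⟨c, (memY c).2 hg'⟩) (by rw [orderOf_mk]; exact hy)
    (fun d => Subtype.ext ((memY _).1 d.2)) (by rw [orderOf_mk]; exact ht2) hcd (by rw [orderOf_mk]; exact hx)
    (by rw [orderOf_mk]; exact hc3)
  have h4 : x * c = c * x := congrArg Subtype.val h3
  -- `c` commutes with an involution
  have hs2 : orderOf (g' * s * g'⁻¹) = 2 := by
    rw [← hs]
    exact orderOf_injective (MulAut.conj g').toMonoidHom (MulAut.conj g').injective s
  have hsc2 : g' * s * g'⁻¹ * c = c * (g' * s * g'⁻¹) := by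
    rw [hc]
    calc g' * s * g'⁻¹ * (g' * c0 * g'⁻¹) = g' * (s * c0) * g'⁻¹ := by group
      _ = g' * (c0 * s) * g'⁻¹ := by rw [hsc]
      _ = g' * c0 * g'⁻¹ * (g' * s * g'⁻¹) := by group
  obtain ⟨k, hk⟩ := mem_zpowers_of_five h hx hy hc3 hs2 hsc2 hxy h4 hg'.symm
  refine ⟨g' * s * g'⁻¹, hs2, ?_⟩
  have hk' : c ^ k = x := hk
  have h6 : Commute (g' * s * g'⁻¹) c := hsc2
  rw [← hk']
  exact (h6.zpow_right k).eq

/-- the elements of order 3 commute with an involution, or `|C(x)| ≤ 243` -/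
theorem j3_cases (h : Spor.IsoJ3 K) {x : K} (hx : orderOf x = 3) :
    (∃ t : K, orderOf t = 2 ∧ t * x = x * t) ∨ Nat.card ↥(centralizer ({x} : Set K)) ≤ 243 := by
  by_cases hex : ∃ t : K, orderOf t = 2 ∧ t * x = x * t
  · exact Or.inl hex
  right
  obtain ⟨hcard, hM, hone, -⟩ := CpAutJThree.base h
  have memC : ∀ a : K, a ∈ centralizer ({x} : Set K) ↔ a * x = x * a := fun a => mem_centralizer_singleton_iff
  have hno : ∀ p : ℕ, p.Prime → p ∣ Nat.card ↥(centralizer ({x} : Set K)) → ∃ y : K, orderOf y = p ∧ x * y = y * x := by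
    intro p hp hd
    have : Fact p.Prime := ⟨hp⟩
    obtain ⟨y, hy⟩ := exists_prime_orderOf_dvd_card' p hd
    exact ⟨y, by rw [← hy]; exact Subgroup.orderOf_coe y, ((memC y).1 y.2).symm⟩
  have h17 : ¬ 17 ∣ Nat.card ↥(centralizer ({x} : Set K)) := by
    intro hd
    obtain ⟨y, hy, hxy⟩ := hno 17 (by norm_num) hd
    have h1 := (H898.J3Cent.seventeen h hy).1
    have h4 : orderOf x ∣ 17 := by
      rw [← h1]
      have := orderOf_dvd_natCard (⟨x, mem_centralizer_singleton_iff.2 hxy⟩ : ↥(centralizer ({y} : Set K)))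
      rwa [Subgroup.orderOf_mk] at this
    rw [hx] at h4
    omega
  have h19 : ¬ 19 ∣ Nat.card ↥(centralizer ({x} : Set K)) := by
    intro hd
    obtain ⟨y, hy, hxy⟩ := hno 19 (by norm_num) hd
    have h1 := H898.J3Cent.card_nineteen h hy
    have h4 : orderOf x ∣ 19 := by
      rw [← h1]
      have := orderOf_dvd_natCard (⟨x, mem_centralizer_singleton_iff.2 hxy⟩ : ↥(centralizer ({y} : Set K)))
      rwa [Subgroup.orderOf_mk] at this
    rw [hx] at h4
    omega
  have h5 : ¬ 5 ∣ Nat.card ↥(centralizer ({x} : Set K)) := by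
    intro hd
    obtain ⟨y, hy, hxy⟩ := hno 5 (by norm_num) hd
    exact hex (exists_inv_of_five h hx hy hxy)
  have hodd : Odd (Nat.card ↥(centralizer ({x} : Set K))) := by
    by_contra hcon
    rw [Nat.not_odd_iff_even, even_iff_two_dvd] at hcon
    obtain ⟨t, ht, hxt⟩ := hno 2 Nat.prime_two hcon
    exact hex ⟨t, ht, hxt.symm⟩
  have hdvd : Nat.card ↥(centralizer ({x} : Set K)) ∣ 3 ^ 5 :=
    H500.NB.dvd_five (hcard ▸ card_subgroup_dvd_card _) hodd h5 h17 h19
  exact Nat.le_of_dvd (by norm_num) hdvd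

end J3

theorem j3 (K : Type u) [Group K] [Finite K] [IsSimpleGroup K] (h : Spor.IsoJ3 K) : ARow 3 K := by
  have : Fact (Nat.Prime 3) := ⟨Nat.prime_three⟩
  have hout : Nat.card (Cfsg.Out K) < 3 := by
    obtain ⟨F, _, _, ω, hF, hω, ⟨e⟩⟩ := h
    rw [Cfsg.Agent.H934.OutB.card_out_congr e, Cfsg.Agent.S2067.result hF ω hω]
    norm_num
  obtain ⟨hcard, hM, hone, -⟩ := CpAutJThree.base h
  obtain ⟨c0, hc0, ⟨s, hs, hsc⟩, hc0c⟩ := CpAutJThree.exc h
  have h243 : 3 ^ (Nat.card K).factorization 3 = 243 := by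
    rw [pow_fact (k := 5) (m := 206720) Nat.prime_three (by rw [hcard]; norm_num) (by norm_num)]
    norm_num
  have h1080 : ∀ x : K, orderOf x = 3 → (∃ t : K, orderOf t = 2 ∧ t * x = x * t) →
      IsConj c0 x ∧ Nat.card ↥(centralizer ({x} : Set K)) = 1080 := by
    rintro x hx ⟨t, ht, htx⟩
    obtain ⟨g, hg⟩ := CpAutJThree.conj_three hM hone hc0 hx hs ht hsc htx
    exact ⟨isConj_iff.2 ⟨g, hg⟩, by rw [← CpAutJThree.card_centralizer_conj g hg]; exact hc0c⟩
  refine arow_of_good (MulEquiv.refl K) hout fun x y hx hy => ?_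
  rcases j3_cases h hx with h1 | h1
  · obtain ⟨h1a, h1b⟩ := h1080 x hx h1
    rcases j3_cases h hy with h2 | h2
    · obtain ⟨h2a, h2b⟩ := h1080 y hy h2
      refine Or.inl ⟨1, 1, ?_, ?_⟩
      · rw [pow_one, pow_one]
        exact h2a.symm.trans h1a
      · rw [pow_one]
        rintro rfl
        rw [orderOf_one] at hx
        omega
    · right
      rw [h1b, h243, hcard]
      exact (Nat.mul_le_mul_right _ (Nat.mul_le_mul_left _ h2)).trans (by norm_num)
  · rcases j3_cases h hy with h2 | h2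
    · obtain ⟨h2a, h2b⟩ := h1080 y hy h2
      right
      rw [h2b, h243, hcard]
      exact (Nat.mul_le_mul_right _ (Nat.mul_le_mul_right _ h1)).trans (by norm_num)
    · right
      rw [h243, hcard]
      exact (Nat.mul_le_mul_right _ (Nat.mul_le_mul h1 h2)).trans (by norm_num)

end Cfsg.Agent.H495.Wf
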