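import Cfsg.Agent.H533.Wf.Inner
import Cfsg.Agent.H934.OutB

/-!
# S3826, sporadic rows: the pairs of elements of order `p` in a model

* `mem_inner` : `|Out K| < p`: all automorphisms of order `p` are inner;
* `Good p x y` : powers conjugate, or the count `|C(x)| |C(y)| |P| ≤ 4 |X|`;
* `arow_of_good`, `arow_of_bound`.
-/

set_option autoImplicit false

namespace Cfsg.Agent.H495.Wf

open Cfsg Cfsg.Agent.H533.Wf

universe u v

/-- `|Out K| < p`: the automorphisms of order `p` are inner. -/
theorem mem_inner {p : ℕ} (hp : p.Prime) {K : Type u} [Group K] [Finite K] (h : Nat.card (Cfsg.Out K) < p)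
    (a : MulAut K) (ha : orderOf a = p) : a ∈ (MulAut.conj : K →* MulAut K).range := by
  have h1 : ((a : MulAut K) : Cfsg.Out K) ^ p = 1 := by
    rw [← QuotientGroup.mk_pow, ← ha, pow_orderOf_eq_one]; rfl
  have h2 : ((a : MulAut K) : Cfsg.Out K) ^ Nat.card (Cfsg.Out K) = 1 := pow_card_eq_one'
  have h3 : Nat.Coprime p (Nat.card (Cfsg.Out K)) :=
    Nat.coprime_of_lt_prime Nat.card_pos.ne' h hp
  exact (QuotientGroup.eq_one_iff a).mp (by
    have := pow_gcd_eq_one.mpr ⟨h1, h2⟩
    rwa [h3, pow_one] at this)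

/-- Good pairs. -/
def Good (p : ℕ) {X : Type v} [Group X] (x y : X) : Prop :=
  (∃ i j : ℕ, IsConj (y ^ j) (x ^ i) ∧ x ^ i ≠ 1) ∨
    Nat.card (Subgroup.centralizer ({x} : Set X)) * Nat.card (Subgroup.centralizer ({y} : Set X)) *
      p ^ (Nat.card X).factorization p ≤ 4 * Nat.card X

/-- centralisers and isomorphisms -/
theorem card_cent_congr {K : Type u} {X : Type v} [Group K] [Group X] (e : K ≃* X) (x : K) :
    Nat.card (Subgroup.centralizer ({x} : Set K)) = Nat.card (Subgroup.centralizer ({e x} : Set X)) := by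
  refine Nat.card_congr ⟨fun c => ⟨e c, ?_⟩, fun c => ⟨e.symm c, ?_⟩, fun c => ?_, fun c => ?_⟩
  · rw [Subgroup.mem_centralizer_singleton_iff]
    have := Subgroup.mem_centralizer_singleton_iff.mp c.2
    rw [← map_mul, ← map_mul, this]
  · rw [Subgroup.mem_centralizer_singleton_iff]
    have := Subgroup.mem_centralizer_singleton_iff.mp c.2
    apply e.injective
    rw [map_mul, map_mul, e.apply_symm_apply, this]
  · exact Subtype.ext (e.symm_apply_apply _)
  · exact Subtype.ext (e.apply_symm_apply _)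

theorem arow_of_good {p : ℕ} [hp : Fact p.Prime] {K : Type u} [Group K] [Finite K] {X : Type v} [Group X]
    (e : K ≃* X) (hout : Nat.card (Cfsg.Out X) < p)
    (h : ∀ x y : X, orderOf x = p → orderOf y = p → Good p x y) : ARow p K := by
  refine ARow.of_inner (mem_inner hp.out (by rwa [Cfsg.Agent.H934.OutB.card_out_congr e])) ?_
  intro C D hc
  obtain ⟨x, hx⟩ := hc.neC
  obtain ⟨y, hy⟩ := hc.neD
  rcases h (e x) (e y) (by rw [e.orderOf_eq]; exact hc.ordC x hx) (by rw [e.orderOf_eq]; exact hc.ordD y hy)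
    with ⟨i, j, h1, h2⟩ | h1
  · refine hc.false_of_isConj hx hy (i := i) (j := j) ?_ ?_
    · obtain ⟨g, hg⟩ := isConj_iff.mp h1
      refine isConj_iff.mpr ⟨e.symm g, e.injective ?_⟩
      rw [map_mul, map_mul, map_inv, e.apply_symm_apply, map_pow, map_pow, hg]
    · intro h3
      apply h2
      rw [← map_pow, h3, map_one]
  · refine hc.false_of_card hx hy ?_
    rw [card_cent_congr e, card_cent_congr e, Nat.card_congr e.toEquiv]
    exact h1

/-- A bound for all the centralisers. -/
theorem arow_of_bound {p : ℕ} [hp : Fact p.Prime] {K : Type u} [Group K] [Finite K] {X : Type v} [Group X]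
    (e : K ≃* X) (hout : Nat.card (Cfsg.Out X) < p) (b : ℕ)
    (h : ∀ x : X, orderOf x = p → Nat.card (Subgroup.centralizer ({x} : Set X)) ≤ b)
    (hb : b * b * p ^ (Nat.card X).factorization p ≤ 4 * Nat.card X) : ARow p K :=
  arow_of_good e hout fun x y hx hy => Or.inr ((Nat.mul_le_mul_right _
    (Nat.mul_le_mul (h x hx) (h y hy))).trans hb)

/-- The `p`-part of `n = p ^ k * m`. -/
theorem pow_fact {p k m n : ℕ} (hp : p.Prime) (hn : n = p ^ k * m) (hm : ¬ p ∣ m) :
    p ^ n.factorization p = p ^ k := by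
  have hm0 : m ≠ 0 := by rintro rfl; exact hm (dvd_zero _)
  rw [hn, Nat.factorization_mul (pow_ne_zero _ hp.ne_zero) hm0, Finsupp.add_apply,
    hp.factorization_pow, Finsupp.single_eq_same, Nat.factorization_eq_zero_of_not_dvd hm, add_zero]

end Cfsg.Agent.H495.Wf
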