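import Cfsg.Agent.H495.Wf.Base
import Cfsg.Agent.H19.Odd.HeEl
import Cfsg.Agent.S2075

/-!
# S3826, `p = 3`: the row of `He`
-/

set_option autoImplicit false

namespace Cfsg.Agent.H495.Wf

open Cfsg Cfsg.Agent.H533.Wf

universe u

theorem he (K : Type u) [Group K] [Finite K] [IsSimpleGroup K] (h : Spor.IsoHe K) : ARow 3 K := by
  obtain ⟨e⟩ := h
  have hfin : Finite Spor.He := Finite.of_equiv K e.toEquiv
  have : Fact (Nat.Prime 3) := ⟨Nat.prime_three⟩
  refine arow_of_bound e (by rw [Cfsg.Agent.S2075.result]; norm_num) 7560 (fun x hx => ?_) ?_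
  · rcases Cfsg.Agent.H19.Odd.HeEl.three hx with h | h
    · omega
    · exact h.2
  · have hcard : Nat.card Spor.He = 4030387200 := KFacts.He.Cent.card_He
    rw [pow_fact (k := 3) (m := 149273600) Nat.prime_three (by rw [hcard]; norm_num) (by norm_num), hcard]
    norm_num

end Cfsg.Agent.H495.Wf
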