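import Cfsg.Agent.H495.Wf.Base
import Cfsg.Agent.CpAutTThree.JTwo
import Cfsg.Agent.S2066

/-!
# S3826, `p = 3`: the row of `J2`
-/

set_option autoImplicit false

namespace Cfsg.Agent.H495.Wf

open Cfsg Cfsg.Agent.H533.Wf Subgroup

universe u

theorem j2 (K : Type u) [Group K] [Finite K] [IsSimpleGroup K] (h : Spor.IsoJ2 K) : ARow 3 K := by
  obtain ⟨e⟩ := h
  have hfin : Finite Spor.J2 := Finite.of_equiv K e.toEquiv
  have : Fact (Nat.Prime 3) := ⟨Nat.prime_three⟩
  have hcard : Nat.card Spor.J2 = 604800 := Cfsg.Agent.S1619.result.2.2.2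
  have h27 : 3 ^ (Nat.card Spor.J2).factorization 3 = 27 := by
    rw [pow_fact (k := 3) (m := 22400) Nat.prime_three (by rw [hcard]; norm_num) (by norm_num)]
    norm_num
  obtain ⟨t, w, Q, v, ρ, D⟩ := KFacts.J2.Basic.exists_dat
  obtain ⟨a, b, ha, hb, hca, hcb, hcl, -⟩ := J2Type.ThreeF.main D.F
  have key : ∀ x c : Spor.J2, IsConj x c →
      Nat.card ↥(centralizer ({x} : Set Spor.J2)) = Nat.card ↥(centralizer ({c} : Set Spor.J2)) := by
    intro x c hxc
    obtain ⟨g, rfl⟩ := isConj_iff.1 hxc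
    exact (Cfsg.Agent.CpAutTThree.JTwo.card_cent_conj g x).symm
  refine arow_of_good e (by rw [Cfsg.Agent.S2066.result]; norm_num) fun x y hx hy => ?_
  rcases hcl x hx with h1 | h1
  · rcases hcl y hy with h2 | h2
    · refine Or.inl ⟨1, 1, ?_, ?_⟩
      · rw [pow_one, pow_one]
        exact h2.trans h1.symm
      · rw [pow_one]
        rintro rfl
        rw [orderOf_one] at hx
        omega
    · right
      rw [key _ _ h1, key _ _ h2, hca, hcb, h27, hcard]
      norm_num
  · rcases hcl y hy with h2 | h2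
    · right
      rw [key _ _ h1, key _ _ h2, hca, hcb, h27, hcard]
      norm_num
    · right
      rw [key _ _ h1, key _ _ h2, hcb, h27, hcard]
      norm_num

end Cfsg.Agent.H495.Wf
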