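import Cfsg.Agent.H495.Wf.Base
import Cfsg.Agent.H595.Weak.MTwelve
import Cfsg.Agent.S2061

/-!
# S3826, `p = 3`: the row of `M12`
-/

set_option autoImplicit false

namespace Cfsg.Agent.H495.Wf

open Cfsg Cfsg.Agent.H533.Wf

universe u

theorem m12 (K : Type u) [Group K] [Finite K] [IsSimpleGroup K] (h : Spor.IsoM12 K) : ARow 3 K := by
  obtain ⟨e⟩ := h
  have hfin : Finite Spor.M12 := Finite.of_equiv K e.toEquiv
  have : Fact (Nat.Prime 3) := ⟨Nat.prime_three⟩
  have hcard : Nat.card Spor.M12 = 95040 := MTwelveType.SylowModel.card_M12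
  refine arow_of_bound e (by rw [Cfsg.Agent.S2061.result]; norm_num) 54 (fun x hx => ?_) ?_
  · have h1 := Cfsg.Agent.H595.MTwelveWeak.card_le
      (Cfsg.Agent.H595.MTwelveWeak.rep_fix (MulEquiv.refl Spor.M12)) (w := x)
      (by rw [hx]; exact Nat.prime_three) (by rw [hx]; norm_num)
    omega
  · rw [pow_fact (k := 3) (m := 3520) Nat.prime_three (by rw [hcard]; norm_num) (by norm_num), hcard]
    norm_num

end Cfsg.Agent.H495.Wf
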