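import Cfsg.Agent.H495.Wf.Base
import Cfsg.Agent.H35.M24Two.Cent
import Cfsg.Agent.H729.M24Deg
import Cfsg.Agent.S2064

/-!
# S3826, `p = 3`: the row of `M24`
-/

set_option autoImplicit false

namespace Cfsg.Agent.H495.Wf

open Cfsg Cfsg.Agent.H533.Wf
open Cfsg.Agent.SporadicA.GolayBase Cfsg.Agent.SporadicA.GolayPerm
open Cfsg.Agent.SporadicStructure.M24El Cfsg.Agent.H729.Trans Cfsg.Agent.H729.MData Cfsg.Agent.H729.Count
open Cfsg.Agent.H729.M24Deg Cfsg.Agent.H35.M24Two

universe u

/-- centralisers of conjugate elements -/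
theorem card_cent_of_conj {G : Type u} [Group G] {c w v : G} (h : c * w * c⁻¹ = v) :
    Nat.card (Subgroup.centralizer ({w} : Set G)) = Nat.card (Subgroup.centralizer ({v} : Set G)) := by
  have h1 := card_cent_congr (MulAut.conj c) w
  rw [MulAut.conj_apply, h] at h1
  exact h1

theorem m24 (K : Type u) [Group K] [Finite K] [IsSimpleGroup K] (h : Spor.IsoM24 K) : ARow 3 K := by
  obtain ⟨e⟩ := h
  have hfin : Finite Cfsg.M24 := Finite.of_equiv K e.toEquiv
  have : Fact (Nat.Prime 3) := ⟨Nat.prime_three⟩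
  refine arow_of_bound e (by rw [Cfsg.Agent.S2064.result]; norm_num) 1080 (fun x hx => ?_) ?_
  · obtain ⟨c, h | h⟩ := H865.Three.conj_of_orderOf hx
    · rw [card_cent_of_conj h]
      exact H35.M24Two.card_A
    · have h1 : el gB * el H865.Three.B = el c3 * el gB := by
        rw [← el_pcomp ok_gB H865.Three.okB, ← el_pcomp ok3 ok_gB]
        exact congrArg el (Nat.eq_of_beq_eq_true (by decide +kernel))
      have h2 : el gB * c * x * (el gB * c)⁻¹ = el c3 := by
        rw [mul_inv_rev, show el gB * c * x * (c⁻¹ * (el gB)⁻¹) = el gB * (c * x * c⁻¹) * (el gB)⁻¹ by group, h, h1]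
        group
      rw [card_cent_of_conj h2]
      exact H729.M24Deg.cent3.trans (by norm_num)
  · have hcard : Nat.card Cfsg.M24 = 244823040 := Cfsg.Agent.S0364.result
    rw [pow_fact (k := 3) (m := 9067520) Nat.prime_three (by rw [hcard]; norm_num) (by norm_num), hcard]
    norm_num

end Cfsg.Agent.H495.Wf
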